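import Mathlib
import Groth.Agent.S8283

/-!
# One-dimensional local rings integrally closed in an algebra where a parameter is invertible
-/

set_option autoImplicit false

universe u

open IsLocalRing

namespace Groth.Agent.NormDvr

/-- A reduced one-dimensional noetherian local ring has a non-zero-divisor in its maximal ideal. -/
theorem exists_nzd_mem_maximalIdeal (L : Type u) [CommRing L] [IsLocalRing L] [IsNoetherianRing L] [IsReduced L]
    (hdim : ringKrullDim L = 1) : ∃ t ∈ maximalIdeal L, t ∈ nonZeroDivisors L := by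
  classical
  have hfin := minimalPrimes.finite_of_isNoetherianRing L
  have hnot : ¬ ∀ x ∈ maximalIdeal L, ∃ P ∈ minimalPrimes L, x ∈ P := fun hall => by
    obtain ⟨P, hP, hle⟩ := (Ideal.subset_union_prime_finite hfin (f := id) ⊥ ⊥
      fun P hP _ _ => hP.1.1).1 (fun x hx => Set.mem_iUnion₂.2 (by obtain ⟨P, hP, hxP⟩ := hall x hx; exact ⟨P, hP, hxP⟩))
    haveI : Ring.KrullDimLE 0 L := Ring.krullDimLE_zero_iff.2 fun I hI => by
      have h1 : P ≤ I := hP.2 ⟨hI, bot_le⟩ ((le_maximalIdeal hI.ne_top).trans hle)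
      rw [le_antisymm (le_maximalIdeal hI.ne_top) (hle.trans h1)]
      exact maximalIdeal.isMaximal L
    have h0 : ringKrullDim L ≤ 0 := Ring.krullDimLE_iff.1 inferInstance
    rw [hdim] at h0
    exact absurd h0 (by decide)
  push Not at hnot
  obtain ⟨t, ht, htP⟩ := hnot
  refine ⟨t, ht, mem_nonZeroDivisors_iff_right.2 fun x hx => ?_⟩
  have : x ∈ nilradical L := by
    rw [nilradical_eq_sInf, Submodule.mem_sInf]
    intro J hJ
    haveI : Ideal.IsPrime J := hJ
    obtain ⟨P, hP, hPJ⟩ := Ideal.exists_minimalPrimes_le (bot_le : (⊥ : Ideal L) ≤ J)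
    exact hPJ ((hP.1.1.mem_or_mem (show x * t ∈ P by rw [hx]; exact P.zero_mem)).resolve_right (htP P hP))
  rwa [nilradical_eq_zero] at this

variable {L M : Type u} [CommRing L] [IsLocalRing L] [IsNoetherianRing L] [CommRing M] [Algebra L M]

/-- If every quotient of a parameter integral over `L` lies in `L`, then `L` is a discrete valuation ring. -/
theorem isDVR_of_integrallyClosedIn (hinj : Function.Injective (algebraMap L M)) {t : L}
    (htm : t ∈ maximalIdeal L) (ht : t ∈ nonZeroDivisors L) (htu : IsUnit (algebraMap L M t))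
    (hrad : ∀ P : Ideal L, P.IsPrime → t ∈ P → P = maximalIdeal L)
    (hcl : ∀ z : M, IsIntegral L z → z ∈ Set.range (algebraMap L M)) :
    ∃ _ : IsDomain L, IsDiscreteValuationRing L := by
  classical
  have hmle : maximalIdeal L ≤ (Ideal.span {t}).radical := by
    rw [Ideal.radical_eq_sInf]
    exact le_sInf fun P hP => (hrad P hP.2 (hP.1 (Ideal.mem_span_singleton_self t))).ge
  obtain ⟨N, hN⟩ := Ideal.exists_pow_le_of_le_radical_of_fg hmle (IsNoetherian.noetherian _)
  have htop : ¬ (maximalIdeal L ^ 0 ≤ Ideal.span {t}) := fun h => by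
    rw [pow_zero, Ideal.one_eq_top, top_le_iff, Ideal.span_singleton_eq_top] at h
    exact (mem_maximalIdeal t).1 htm h
  obtain ⟨n, hn, hn'⟩ : ∃ n, ¬ (maximalIdeal L ^ n ≤ Ideal.span {t}) ∧ maximalIdeal L ^ (n + 1) ≤ Ideal.span {t} := by
    by_contra hno
    push Not at hno
    have : ∀ n, ¬ (maximalIdeal L ^ n ≤ Ideal.span {t}) := fun n => by
      induction n with
      | zero => exact htop
      | succ n ih => exact hno n ih
    exact this N hN
  obtain ⟨d, hdn, hdt⟩ := SetLike.not_le_iff_exists.1 hn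
  have hd : ∀ x ∈ maximalIdeal L, ∃ e, d * x = t * e := fun x hx => by
    obtain ⟨e, he⟩ := Ideal.mem_span_singleton.1 (hn' (pow_succ (maximalIdeal L) n ▸ Ideal.mul_mem_mul hdn hx))
    exact ⟨e, he⟩
  obtain ⟨π, hπm, e, he, heu⟩ : ∃ π ∈ maximalIdeal L, ∃ e, d * π = t * e ∧ IsUnit e := by
    by_contra hno
    push Not at hno
    obtain ⟨ti, hti⟩ := htu
    let z : M := algebraMap L M d * ↑ti⁻¹
    have hzx : ∀ x ∈ maximalIdeal L, ∃ x' ∈ maximalIdeal L, z * algebraMap L M x = algebraMap L M x' := fun x hx => by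
      obtain ⟨e, he⟩ := hd x hx
      refine ⟨e, (mem_maximalIdeal e).2 (hno x hx e he), ?_⟩
      rw [mul_right_comm, ← map_mul, he, map_mul, ← hti, mul_comm (ti : M), mul_assoc, Units.mul_inv, mul_one]
    have hpow : ∀ k : ℕ, ∃ x ∈ maximalIdeal L, z ^ k * algebraMap L M t = algebraMap L M x := fun k => by
      induction k with
      | zero => exact ⟨t, htm, by rw [pow_zero, one_mul]⟩
      | succ k ih =>
        obtain ⟨x, hx, hk⟩ := ih
        obtain ⟨x', hx', h'⟩ := hzx x hx
        exact ⟨x', hx', by rw [pow_succ', mul_assoc, hk, h']⟩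
    have hz : IsIntegral L z := by
      refine IsIntegral.of_mem_of_fg (Algebra.adjoin L {z}) ?_ z (Algebra.self_mem_adjoin_singleton L z)
      refine Submodule.FG.of_le (Submodule.fg_span_singleton (R := L) (↑ti⁻¹ : M)) ?_
      rw [Algebra.adjoin_singleton_eq_range_aeval]
      rintro _ ⟨p, rfl⟩
      change Polynomial.aeval z p ∈ _
      induction p using Polynomial.induction_on' with
      | add p q hp hq => rw [map_add]; exact add_mem hp hq
      | monomial k c =>
        obtain ⟨x, -, hk⟩ := hpow k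
        refine Submodule.mem_span_singleton.2 ⟨c * x, ?_⟩
        rw [Polynomial.aeval_monomial, Algebra.smul_def, map_mul, ← hk, ← hti]
        rw [mul_assoc, mul_assoc, Units.mul_inv, mul_one]
    obtain ⟨c, hc⟩ := hcl z hz
    refine hdt (Ideal.mem_span_singleton.2 ⟨c, hinj ?_⟩)
    rw [map_mul, hc, ← hti, mul_left_comm, Units.mul_inv, mul_one]
  have hdnzd : d ∈ nonZeroDivisors L := by
    have h1 : d * π ∈ nonZeroDivisors L := he ▸ mul_mem ht heu.mem_nonZeroDivisors
    exact (mul_mem_nonZeroDivisors.1 h1).1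
  have hmax : maximalIdeal L = Ideal.span {π} := by
    refine le_antisymm (fun x hx => ?_) ((Ideal.span_singleton_le_iff_mem _).2 hπm)
    obtain ⟨e', he'⟩ := hd x hx
    refine Ideal.mem_span_singleton.2 ⟨e' * ↑heu.unit⁻¹, ?_⟩
    refine mul_cancel_left_mem_nonZeroDivisors hdnzd |>.1 ?_
    rw [he', ← mul_assoc, he]
    rw [mul_assoc, mul_left_comm e, heu.mul_val_inv, mul_one]
  have hπnil : ¬ IsNilpotent π := by
    rintro ⟨k, hk⟩
    have h1 : π ∈ nonZeroDivisors L := by
      have h1 : d * π ∈ nonZeroDivisors L := he ▸ mul_mem ht heu.mem_nonZeroDivisors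
      exact (mul_mem_nonZeroDivisors.1 h1).2
    exact zero_notMem_nonZeroDivisors (hk ▸ pow_mem h1 k)
  exact S8283.isDVR_of_principal π hmax hπnil

/-- The local ring at a point of dimension one of a ring integrally closed in an algebra. -/
theorem isDVR_atPrime {C B L : Type u} [CommRing C] [IsNoetherianRing C] [IsReduced C] [CommRing B] [Algebra C B]
    [CommRing L] [Algebra C L] [IsLocalRing L] (hinj : Function.Injective (algebraMap C B))
    (hcl : ∀ b : B, IsIntegral C b → b ∈ Set.range (algebraMap C B))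
    (q : Ideal C) [q.IsPrime] [IsLocalization.AtPrime L q] (hdim : ringKrullDim L = 1)
    (hunit : ∀ a : C, (∀ p : Ideal C, p.IsPrime → p ≤ q → a ∈ p → p = q) →
      ∃ s ∉ q, ∃ b : B, algebraMap C B a * b = algebraMap C B s) :
    ∃ _ : IsDomain L, IsDiscreteValuationRing L := by
  classical
  haveI : IsNoetherianRing L := IsLocalization.isNoetherianRing q.primeCompl L inferInstance
  haveI : IsReduced L := isReduced_localizationPreserves q.primeCompl L inferInstance
  obtain ⟨t, htm, ht⟩ := exists_nzd_mem_maximalIdeal L hdim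
  have hrad : ∀ P : Ideal L, P.IsPrime → t ∈ P → P = maximalIdeal L := fun P hP htP => by
    haveI : Ring.KrullDimLE 1 L := Ring.krullDimLE_iff.2 (by rw [hdim]; rfl)
    by_contra hne
    have hmin : P ∈ minimalPrimes L := ((Ring.krullDimLE_one_iff.1 inferInstance) P hP).resolve_right
      fun hmax => hne (eq_maximalIdeal hmax)
    exact Set.disjoint_left.1 (Ideal.disjoint_nonZeroDivisors_of_mem_minimalPrimes hmin) htP ht
  obtain ⟨⟨a, u⟩, hau⟩ := IsLocalization.surj q.primeCompl t
  have haP : ∀ p : Ideal C, p.IsPrime → p ≤ q → a ∈ p → p = q := fun p hp hpq hap => by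
    have hdisj : Disjoint (q.primeCompl : Set C) p := Set.disjoint_left.2 fun x hx hxp => hx (hpq hxp)
    haveI := IsLocalization.isPrime_of_isPrime_disjoint q.primeCompl L p hp hdisj
    have h1 : t ∈ p.map (algebraMap C L) := by
      have : t * algebraMap C L u ∈ p.map (algebraMap C L) := hau ▸ Ideal.mem_map_of_mem _ hap
      exact ((Ideal.IsPrime.mem_or_mem inferInstance this).resolve_right fun h =>
        Ideal.IsPrime.ne_top inferInstance (Ideal.eq_top_of_isUnit_mem _ h (IsLocalization.map_units L u)))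
    rw [← IsLocalization.under_map_of_isPrime_disjoint q.primeCompl L hp hdisj, hrad _ inferInstance h1,
      IsLocalization.AtPrime.under_maximalIdeal L q]
  obtain ⟨s, hs, b, hb⟩ := hunit a haP
  let T := Algebra.algebraMapSubmonoid B q.primeCompl
  let M := Localization T
  letI : Algebra L M := (IsLocalization.map M (algebraMap C B) (M := q.primeCompl) (T := T)
    (fun x hx => ⟨x, hx, rfl⟩)).toAlgebra
  haveI : IsScalarTower C L M := IsScalarTower.of_algebraMap_eq fun x => by
    rw [RingHom.algebraMap_toAlgebra, IsLocalization.map_eq, ← IsScalarTower.algebraMap_apply]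
  have hunitM : ∀ x : C, x ∉ q → IsUnit (algebraMap C M x) := fun x hx => by
    rw [IsScalarTower.algebraMap_apply C B M]
    exact IsLocalization.map_units M (⟨_, x, hx, rfl⟩ : T)
  have hinjM : Function.Injective (algebraMap L M) := by
    refine (injective_iff_map_eq_zero _).2 fun l hl => ?_
    obtain ⟨⟨c, w⟩, hcw⟩ := IsLocalization.surj q.primeCompl l
    have h1 : algebraMap B M (algebraMap C B c) = 0 := by
      rw [← IsScalarTower.algebraMap_apply, IsScalarTower.algebraMap_apply C L M, ← hcw, map_mul, hl, zero_mul]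
    obtain ⟨⟨_, x, hx, rfl⟩, hx0⟩ := (IsLocalization.map_eq_zero_iff T M _).1 h1
    have hxc : x * c = 0 := hinj (by rw [map_mul, map_zero]; exact hx0)
    have : algebraMap C L c = 0 := (IsLocalization.map_eq_zero_iff q.primeCompl L c).2 ⟨⟨x, hx⟩, hxc⟩
    exact ((IsLocalization.map_units L w).mul_left_eq_zero).1 (hcw.trans this)
  refine isDVR_of_integrallyClosedIn hinjM htm ht ?_ hrad fun z hz => ?_
  · have h1 : IsUnit (algebraMap C M a) := by
      have := hunitM s hs
      rw [IsScalarTower.algebraMap_apply C B M, ← hb, map_mul, ← IsScalarTower.algebraMap_apply] at this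
      exact isUnit_of_mul_isUnit_left this
    rw [IsScalarTower.algebraMap_apply C L M, ← hau, map_mul] at h1
    exact isUnit_of_mul_isUnit_left h1
  · obtain ⟨⟨m, hm⟩, hmz⟩ := IsIntegral.exists_multiple_integral_of_isLocalization q.primeCompl z hz
    obtain ⟨⟨b₀, _, v, hv, rfl⟩, hbv⟩ := IsLocalization.surj T (m • z)
    simp only at hbv
    have hb₀ : IsIntegral C (algebraMap B M b₀) := by
      rw [← hbv, ← IsScalarTower.algebraMap_apply]
      exact IsIntegral.mul hmz isIntegral_algebraMap
    obtain ⟨m₃, hm₃, hm₃b⟩ := IsLocalization.exists_isIntegral_smul_of_isIntegral_map (Sₘ := M) q.primeCompl hb₀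
    obtain ⟨c, hc⟩ := hcl _ hm₃b
    have hU : IsUnit (algebraMap C L (m₃ * v * m)) := IsLocalization.map_units L
      (⟨m₃ * v * m, mul_mem (mul_mem hm₃ hv) hm⟩ : q.primeCompl)
    refine ⟨algebraMap C L c * ↑hU.unit⁻¹, ?_⟩
    refine (hU.map (algebraMap L M)).mul_left_inj.1 ?_
    rw [map_mul, mul_assoc, ← map_mul, hU.val_inv_mul, map_one, mul_one, ← IsScalarTower.algebraMap_apply,
      ← IsScalarTower.algebraMap_apply, IsScalarTower.algebraMap_apply C B M, hc, Algebra.smul_def, map_mul,
      ← hbv, ← IsScalarTower.algebraMap_apply, ← IsScalarTower.algebraMap_apply, Algebra.smul_def, map_mul, map_mul]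
    ring

end Groth.Agent.NormDvr
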